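import Mathlib
import Cfsg.Prelude.Def_KGroupFacts
import Mathlib.GroupTheory.Nilpotent

/-!
# Operators on a group with cyclic outer automorphism group and a fixed point in every coset

If every coset of the inner automorphisms contains an automorphism with a non-trivial fixed point
and the outer automorphism group is cyclic, a group of operators `A` with a normal subgroup `K` of
order prime to `|T|` and `A ⧸ K` nilpotent fixes a non-trivial element.
-/

set_option autoImplicit false
set_option linter.style.haveILetI false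

namespace Cfsg.Agent.Lib.FpfSThreeFree86

open Subgroup

universe u

/-- Cyclic outer automorphism group and a fixed point in every coset. -/
structure Good (T : Type u) [Group T] : Prop where
  cyclic : IsCyclic (Cfsg.Out T)
  fixed : ∀ α : MulAut T, ∃ (s t : T), t ≠ 1 ∧ s * α t * s⁻¹ = t

/-- A non-trivial normal subgroup of a nilpotent group meets the centre non-trivially. -/
theorem inf_center_ne_bot {G : Type*} [Group G] [Group.IsNilpotent G] {N : Subgroup G} [hN : N.Normal] (h1 : N ≠ ⊥) :
    N ⊓ Subgroup.center G ≠ ⊥ := by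
  intro h
  obtain ⟨n, hn⟩ := Group.IsNilpotent.nilpotent G
  refine h1 ?_
  have key : ∀ i, N ⊓ Subgroup.upperCentralSeries G i = ⊥ := by
    intro i
    induction i with
    | zero => simp [Subgroup.upperCentralSeries_zero]
    | succ i ih =>
      rw [Subgroup.eq_bot_iff_forall]
      rintro x ⟨hxN, hxZ⟩
      refine Subgroup.mem_bot.1 (h ▸ ⟨hxN, Subgroup.mem_center_iff.2 fun g => ?_⟩)
      have h1 := (Subgroup.mem_upperCentralSeries_succ_iff).1 hxZ g
      have h2 : x * g * x⁻¹ * g⁻¹ ∈ N := by
        have h3 : x * (g * x⁻¹ * g⁻¹) ∈ N := N.mul_mem hxN (hN.conj_mem _ (N.inv_mem hxN) g)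
        simpa [mul_assoc] using h3
      have h4 : x * g * x⁻¹ * g⁻¹ = 1 := Subgroup.mem_bot.1 (ih ▸ ⟨h2, h1⟩)
      rw [mul_inv_eq_one, mul_inv_eq_iff_eq_mul] at h4
      exact h4.symm
  have := key n
  rwa [hn, inf_top_eq] at this

variable {T : Type u} [Group T]

theorem Good.exists_fixed_auto [Finite T] (hT : Good T) (α : MulAut T) : ∃ t : T, t ≠ 1 ∧ α t = t := by
  by_contra hno
  push Not at hno
  have hinj : Function.Injective fun u : T => u⁻¹ * α u := by
    intro u v (h : u⁻¹ * α u = v⁻¹ * α v)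
    by_contra hne
    refine hno (v * u⁻¹) (fun h1 => hne (mul_inv_eq_one.1 h1).symm) ?_
    rw [map_mul, map_inv, show α v = v * (u⁻¹ * α u) by rw [h, mul_inv_cancel_left]]
    group
  obtain ⟨s, t, ht, hst⟩ := hT.fixed α
  obtain ⟨w, hw⟩ := (Finite.injective_iff_surjective.1 hinj) s
  have hw' : α w = w * s := by rw [← hw, mul_inv_cancel_left]
  refine hno (w * t * w⁻¹) (fun h1 => ht (conj_eq_one_iff.1 h1)) ?_
  rw [map_mul, map_mul, map_inv, hw', mul_inv_rev]
  conv_rhs => rw [← hst]
  group

theorem Good.exists_fixed [Finite T] (hT : Good T) (hZ : center T = ⊥) {A : Type*} [Group A] [Finite A]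
    (ψ : A →* MulAut T) (K : Subgroup A) [K.Normal] [Group.IsNilpotent (A ⧸ K)]
    (hco : (Nat.card K).Coprime (Nat.card T)) : ∃ t : T, t ≠ 1 ∧ ∀ a, ψ a t = t := by
  classical
  haveI : Finite ψ.range := Finite.of_surjective _ ψ.rangeRestrict_surjective
  let KX : Subgroup ψ.range := K.map ψ.rangeRestrict
  haveI : KX.Normal := Subgroup.Normal.map inferInstance _ ψ.rangeRestrict_surjective
  haveI : Group.IsNilpotent (ψ.range ⧸ KX) := by
    refine Group.nilpotent_of_surjective
      (QuotientGroup.map K KX ψ.rangeRestrict (Subgroup.le_comap_map _ _)) fun q => ?_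
    obtain ⟨x, rfl⟩ := QuotientGroup.mk'_surjective KX q
    obtain ⟨a, rfl⟩ := ψ.rangeRestrict_surjective x
    exact ⟨QuotientGroup.mk' K a, rfl⟩
  let L : Subgroup ψ.range := (Cfsg.Inn T).subgroupOf ψ.range
  haveI hLn : L.Normal := Subgroup.Normal.subgroupOf inferInstance _
  by_cases hL : L = ⊥
  · have hcyc : IsCyclic ψ.range := by
      haveI := hT.cyclic
      refine isCyclic_of_injective ((QuotientGroup.mk' (Cfsg.Inn T)).comp ψ.range.subtype) ?_
      rw [injective_iff_map_eq_one]
      intro x hx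
      have h : x ∈ L := mem_subgroupOf.2 ((QuotientGroup.eq_one_iff _).1 hx)
      rwa [hL, Subgroup.mem_bot] at h
    obtain ⟨⟨α, hα⟩, hgen⟩ := hcyc.exists_generator
    obtain ⟨t, ht, hαt⟩ := hT.exists_fixed_auto α
    refine ⟨t, ht, fun a => ?_⟩
    let St : Subgroup ψ.range := {
      carrier := {b | (b : MulAut T) t = t}
      one_mem' := rfl
      mul_mem' := fun {y z} hy hz => by
        show (y : MulAut T) ((z : MulAut T) t) = t
        rw [hz, hy]
      inv_mem' := fun {y} hy => by
        show ((y : MulAut T))⁻¹ t = t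
        conv_lhs => rw [← (hy : (y : MulAut T) t = t)]
        exact MulEquiv.symm_apply_apply _ _ }
    obtain ⟨k, hk⟩ := hgen (ψ.rangeRestrict a)
    exact (show ψ.rangeRestrict a ∈ St from hk ▸ St.zpow_mem (show (⟨α, hα⟩ : ψ.range) ∈ St from hαt) k)
  · have hinj : Function.Injective (MulAut.conj : T →* MulAut T) := by
      rw [injective_iff_map_eq_one]
      intro s hs
      have hc : s ∈ center T := mem_center_iff.2 fun g => by
        have := DFunLike.congr_fun hs g
        rw [MulAut.conj_apply, MulAut.one_apply, mul_inv_eq_iff_eq_mul] at this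
        exact this.symm
      rwa [hZ, Subgroup.mem_bot] at hc
    have hdis : ∀ x ∈ L, x ∈ KX → x = 1 := by
      intro x hxL hxK
      obtain ⟨k, hk, rfl⟩ := Subgroup.mem_map.1 hxK
      obtain ⟨s, hs⟩ := mem_subgroupOf.1 hxL
      rw [← orderOf_eq_one_iff]
      refine Nat.eq_one_of_dvd_coprimes hco
        ((orderOf_map_dvd ψ.rangeRestrict k).trans (Subgroup.orderOf_dvd_natCard K hk)) ?_
      rw [← Subgroup.orderOf_coe, ← hs]
      exact (orderOf_map_dvd _ s).trans (orderOf_dvd_natCard s)
    have hmap : L.map (QuotientGroup.mk' KX) ≠ ⊥ := by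
      rw [Ne, Subgroup.map_eq_bot_iff, QuotientGroup.ker_mk']
      exact fun h => hL (Subgroup.eq_bot_iff_forall _ |>.2 fun x hx => hdis x hx (h hx))
    haveI : (L.map (QuotientGroup.mk' KX)).Normal := hLn.map _ (QuotientGroup.mk'_surjective KX)
    obtain ⟨⟨z, ⟨l, hlL, rfl⟩, hzc⟩, hz1⟩ :=
      (Subgroup.ne_bot_iff_exists_ne_one.1 (inf_center_ne_bot hmap))
    obtain ⟨s, hs⟩ := mem_subgroupOf.1 hlL
    refine ⟨s, ?_, fun a => hinj ?_⟩
    · rintro rfl
      refine hz1 (Subtype.ext ?_)
      show QuotientGroup.mk' KX l = 1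
      rw [show l = 1 from Subtype.ext (by rw [← hs, map_one]; rfl), map_one]
    · have hcomm : ψ.rangeRestrict a * l * (ψ.rangeRestrict a)⁻¹ * l⁻¹ = 1 := by
        refine hdis _ (mul_mem (hLn.conj_mem l hlL _) (inv_mem hlL)) ?_
        rw [← QuotientGroup.eq_one_iff]
        show QuotientGroup.mk' KX (ψ.rangeRestrict a * l * (ψ.rangeRestrict a)⁻¹ * l⁻¹) = 1
        rw [map_mul, map_mul, map_mul, map_inv, map_inv, mem_center_iff.1 hzc]
        group
      have h := congrArg Subtype.val (mul_inv_eq_one.1 hcomm)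
      simp only [Subgroup.coe_mul, Subgroup.coe_inv, MonoidHom.coe_rangeRestrict, ← hs] at h
      refine Eq.trans (MulEquiv.ext fun x => ?_) h
      simp [MulAut.conj_apply, map_mul, map_inv]

end Cfsg.Agent.Lib.FpfSThreeFree86
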