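import Mathlib
import Cfsg.Agent.Lib.Transfer.Frobenius

/-!
# Fixed-point-free operators with a nilpotent quotient stay fixed-point-free on quotients

`A` acts on `G`, `K ⊴ A` has order prime to `|G|` and `A ⧸ K` is nilpotent. If only `1` is fixed
then the same holds modulo an invariant normal abelian `p`-subgroup.
-/

set_option autoImplicit false

namespace Cfsg.Agent.Lib.FpfSThreeFree86

open Subgroup

variable {G : Type*} [Group G] {A : Type*} [Group A] (φ : A →* MulAut G)

/-- The fixed points of `B ≤ A`. -/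
def fixOf (B : Subgroup A) : Subgroup G where
  carrier := {g | ∀ b ∈ B, φ b g = g}
  one_mem' := fun b _ => map_one _
  mul_mem' := fun {x y} hx hy b hb => by rw [map_mul, hx b hb, hy b hb]
  inv_mem' := fun {x} hx b hb => by rw [map_inv, hx b hb]

theorem mem_fixOf {B : Subgroup A} {g : G} : g ∈ fixOf φ B ↔ ∀ b ∈ B, φ b g = g := Iff.rfl

theorem fixOf_invariant {B : Subgroup A} [B.Normal] {g : G} (hg : g ∈ fixOf φ B) (a : A) :
    φ a g ∈ fixOf φ B := fun b hb => by
  have h := hg (a⁻¹ * b * a⁻¹⁻¹) (Subgroup.Normal.conj_mem inferInstance b hb a⁻¹)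
  calc φ b (φ a g) = φ a (φ (a⁻¹ * b * a⁻¹⁻¹) g) := by
        rw [← MulAut.mul_apply, ← MulAut.mul_apply, ← map_mul, ← map_mul]; simp [mul_assoc]
    _ = φ a g := by rw [h]

/-- Averaging over a group of order prime to an invariant abelian subgroup. -/
theorem exists_fixed_mul_abelian [Finite A] (B : Subgroup A) (M : Subgroup G) [Finite M]
    (hM : IsMulCommutative M) (hinv : ∀ b ∈ B, ∀ m ∈ M, φ b m ∈ M)
    (hco : (Nat.card B).Coprime (Nat.card M)) {g : G} (hg : ∀ b ∈ B, g⁻¹ * φ b g ∈ M) :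
    ∃ n ∈ M, g * n ∈ fixOf φ B := by
  classical
  letI : CommGroup M := { (inferInstance : Group M) with mul_comm := fun x y => hM.is_comm.comm x y }
  haveI : Fintype B := Fintype.ofFinite B
  let c : B → M := fun b => ⟨g⁻¹ * φ b g, hg b b.2⟩
  let f : B → (M →* M) := fun b =>
    { toFun := fun m => ⟨φ b m, hinv b b.2 m m.2⟩
      map_one' := Subtype.ext (map_one (φ (b : A)))
      map_mul' := fun x y => Subtype.ext (map_mul (φ (b : A)) (x : G) y) }
  have hc : ∀ a b : B, c (a * b) = c a * f a (c b) := fun a b => Subtype.ext (by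
    show g⁻¹ * φ ((a : A) * b) g = g⁻¹ * φ a g * φ a (g⁻¹ * φ b g)
    rw [map_mul, map_mul, map_inv, MulAut.mul_apply]
    group)
  set m : M := ∏ b, c b with hm
  have key : ∀ a : B, m = c a ^ Fintype.card B * f a m := by
    intro a
    calc m = ∏ b, c (a * b) := (Fintype.prod_equiv (Equiv.mulLeft a) _ _ fun b => rfl).symm
      _ = ∏ b, c a * f a (c b) := by simp only [hc]
      _ = c a ^ Fintype.card B * f a m := by
        rw [Finset.prod_mul_distrib, Finset.prod_const, Finset.card_univ, map_prod]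
  have hco' : (Nat.card M).Coprime (Fintype.card B) := by
    rw [← Nat.card_eq_fintype_card]; exact hco.symm
  obtain ⟨n, hn⟩ : ∃ n : M, n ^ Fintype.card B = m :=
    ⟨(powCoprime hco').symm m, (powCoprime hco').apply_symm_apply m⟩
  refine ⟨n, n.2, fun b hb => ?_⟩
  have h1 : n ^ Fintype.card B = (c ⟨b, hb⟩ * f ⟨b, hb⟩ n) ^ Fintype.card B := by
    rw [mul_pow, ← map_pow, hn]; exact key ⟨b, hb⟩
  have h2 : n = c ⟨b, hb⟩ * f ⟨b, hb⟩ n := (powCoprime hco').injective h1
  rw [map_mul]
  conv_rhs => rw [h2]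
  show φ b g * φ b n = g * (g⁻¹ * φ b g * φ b n)
  group

/-- A fixed-point-free action stays fixed-point-free modulo an invariant abelian `p`-subgroup. -/
theorem mem_of_fixed_mod [Finite G] [Finite A] (K : Subgroup A) [K.Normal]
    [Group.IsNilpotent (A ⧸ K)] (hKco : (Nat.card K).Coprime (Nat.card G))
    (hfpf : ∀ g : G, (∀ a : A, φ a g = g) → g = 1) {p : ℕ} [Fact p.Prime] (M : Subgroup G)
    (hM : IsMulCommutative M) (hMp : IsPGroup p M) (hinv : ∀ (a : A), ∀ m ∈ M, φ a m ∈ M)
    {g : G} (hg : ∀ a : A, g⁻¹ * φ a g ∈ M) : g ∈ M := by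
  classical
  by_cases hM1 : M = ⊥
  · have : g = 1 := hfpf g fun a => by
      have h := hg a
      rw [hM1, Subgroup.mem_bot, inv_mul_eq_one] at h
      exact h.symm
    rw [this]; exact one_mem _
  have hpG : p ∣ Nat.card G := by
    obtain ⟨k, hk⟩ := hMp.exists_card_eq
    have hk0 : k ≠ 0 := by
      rintro rfl
      exact hM1 (Subgroup.card_eq_one.1 (by rw [hk, pow_zero]))
    exact (dvd_pow_self p hk0).trans (hk ▸ Subgroup.card_subgroup_dvd_card M)
  have hp := (Fact.out : p.Prime)
  -- the `p'`-part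
  obtain ⟨P, N, hN, hcompl⟩ := Cfsg.Agent.Lib.Transfer.Frobenius.hasNormalPComplement_of_isNilpotent
    (p := p) (G := A ⧸ K)
  haveI := hN
  set B : Subgroup A := N.comap (QuotientGroup.mk' K) with hB
  haveI : B.Normal := hN.comap _
  have hNp : ¬ p ∣ Nat.card N := by
    have h := P.not_dvd_index
    rwa [hcompl.index_eq_card] at h
  have hBcard : Nat.card B = Nat.card K * Nat.card N := by
    have h1 := B.card_mul_index
    have h2 := (K).card_mul_index
    have h3 := N.card_mul_index
    rw [hB, Subgroup.index_comap_of_surjective _ (QuotientGroup.mk'_surjective K)] at h1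
    have h4 : Nat.card (A ⧸ K) = K.index := rfl
    rw [h4] at h3
    have hpos : 0 < N.index := Nat.pos_of_ne_zero Subgroup.index_ne_zero_of_finite
    refine Nat.eq_of_mul_eq_mul_right hpos ?_
    rw [hB, mul_assoc, h3, h2, h1]
  have hBp : ¬ p ∣ Nat.card B := by
    rw [hBcard, hp.dvd_mul, not_or]
    exact ⟨fun h => hp.not_dvd_one (hKco.gcd_eq_one ▸ Nat.dvd_gcd h hpG), hNp⟩
  have hcoB : (Nat.card B).Coprime (Nat.card M) := by
    obtain ⟨k, hk⟩ := hMp.exists_card_eq
    rw [hk]
    exact (hp.coprime_iff_not_dvd.2 hBp).symm.pow_right k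
  -- no fixed point of the `p'`-part in `M`
  have hC : ∀ c ∈ M, c ∈ fixOf φ B → c = 1 := by
    obtain ⟨Q⟩ : Nonempty (Sylow p A) := inferInstance
    let C : Subgroup G := M ⊓ fixOf φ B
    have hCinv : ∀ (a : A), ∀ c ∈ C, φ a c ∈ C :=
      fun a c hc => ⟨hinv a c hc.1, fixOf_invariant φ hc.2 a⟩
    letI : MulAction Q C :=
      { smul := fun q c => ⟨φ q c, hCinv q c c.2⟩
        one_smul := fun c => Subtype.ext (by show φ (1 : A) c = c; rw [map_one]; rfl)
        mul_smul := fun x y c => Subtype.ext (by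
          show φ ((x : A) * y) c = φ x (φ y c); rw [map_mul]; rfl) }
    have hsup : (Q : Subgroup A) ⊔ B = ⊤ := by
      rw [← Subgroup.index_eq_one]
      refine Nat.eq_one_of_dvd_coprimes ?_ (Subgroup.index_dvd_of_le (le_sup_left : (Q : Subgroup A) ≤ _))
        (Subgroup.index_dvd_of_le (le_sup_right : B ≤ (Q : Subgroup A) ⊔ B))
      rw [hB, Subgroup.index_comap_of_surjective _ (QuotientGroup.mk'_surjective K),
        hcompl.symm.index_eq_card]
      obtain ⟨k, hk⟩ := P.2.exists_card_eq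
      rw [hk]
      exact (hp.coprime_iff_not_dvd.2 Q.not_dvd_index).symm.pow_right k
    have hfix : ∀ x : C, x ∈ MulAction.fixedPoints Q C → x = 1 := by
      intro x hx
      refine Subtype.ext (hfpf x fun a => ?_)
      let St : Subgroup A := {
        carrier := {b | φ b (x : G) = x}
        one_mem' := by show φ 1 (x : G) = x; rw [map_one]; rfl
        mul_mem' := fun {y z} hy hz => by
          show φ (y * z) (x : G) = x
          rw [map_mul, MulAut.mul_apply, hz, hy]
        inv_mem' := fun {y} hy => by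
          show φ y⁻¹ (x : G) = x
          rw [map_inv]
          conv_lhs => rw [← (hy : φ y (x : G) = x)]
          exact MulEquiv.symm_apply_apply _ _ }
      have hle : (Q : Subgroup A) ⊔ B ≤ St :=
        sup_le (fun q hq => congrArg Subtype.val (hx ⟨q, hq⟩)) fun b hb => x.2.2 b hb
      exact hle (hsup ▸ Subgroup.mem_top a)
    intro c hc hcB
    have hCp : IsPGroup p C := hMp.to_le inf_le_left
    obtain ⟨k, hk⟩ := hCp.exists_card_eq
    have hk0 : k = 0 := by
      by_contra hk0
      have hone : (1 : C) ∈ MulAction.fixedPoints Q C := fun q => Subtype.ext (map_one _)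
      obtain ⟨x, hx, hne⟩ := Q.2.exists_fixed_point_of_prime_dvd_card_of_fixed_point C
        (hk ▸ dvd_pow_self p hk0) hone
      exact hne (hfix x hx).symm
    have h1 : C = ⊥ := Subgroup.card_eq_one.1 (by rw [hk, hk0, pow_zero])
    exact (Subgroup.mem_bot.1 (h1 ▸ (⟨hc, hcB⟩ : c ∈ C)))
  obtain ⟨n, hn, hgn⟩ := exists_fixed_mul_abelian φ B M hM (fun b _ => hinv b) hcoB fun b _ => hg b
  have : g * n = 1 := hfpf _ fun a => by
    have hd : (g * n)⁻¹ * φ a (g * n) ∈ M := by
      rw [map_mul, mul_inv_rev, show n⁻¹ * g⁻¹ * (φ a g * φ a n) = n⁻¹ * (g⁻¹ * φ a g) * φ a n by group]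
      exact mul_mem (mul_mem (inv_mem hn) (hg a)) (hinv a n hn)
    exact (inv_mul_eq_one.1 (hC _ hd (mul_mem (inv_mem hgn) (fixOf_invariant φ hgn a)))).symm
  exact (show g = n⁻¹ from eq_inv_of_mul_eq_one_left this) ▸ inv_mem hn

end Cfsg.Agent.Lib.FpfSThreeFree86
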