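import Cfsg.Prelude.Def_LocalEven
import Cfsg.Prelude.Def_KGroupFacts
import Cfsg.Agent.Lib.LieTwisted.SuzukiOut
import Cfsg.Agent.Lib.LieTwisted.SuzukiBruhat
import Cfsg.Agent.Lib.GWConsumers31.AutPSLTwo
import Cfsg.Agent.Lib.FpfSThreeFree86.Auto

/-!
# `Sz(q)` and `PSL₂(3^(2n+1))`: cyclic outer automorphisms, each coset with a fixed point

Owner: helper86.
-/

set_option autoImplicit false
set_option linter.style.haveILetI false

namespace Cfsg.Agent.Lib.FpfSThreeFree86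

universe u v

theorem good_of_decomp {T : Type u} [Group T] (t : T) (ht : t ≠ 1) (hc : IsCyclic (Cfsg.Out T))
    (hd : ∀ α : MulAut T, ∃ (s : T) (β : MulAut T), α = MulAut.conj s * β ∧ β t = t) : Good T := by
  refine ⟨hc, fun α => ?_⟩
  obtain ⟨s, β, rfl, hβ⟩ := hd α
  refine ⟨s⁻¹, t, ht, ?_⟩
  rw [MulAut.mul_apply, hβ, MulAut.conj_apply]
  group

theorem Good.congr {X : Type u} {Y : Type v} [Group X] [Group Y] (e : X ≃* Y) (h : Good X) :
    Good Y := by
  set c := MulAut.congr e with hc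
  have hconj : ∀ x : X, c (MulAut.conj x) = MulAut.conj (e x) := fun x => MulEquiv.ext fun y => by
    simp [hc, MulAut.congr, MulAut.conj_apply]
  refine ⟨?_, fun α => ?_⟩
  · haveI := h.cyclic
    refine isCyclic_of_surjective (QuotientGroup.map (Cfsg.Inn X) (Cfsg.Inn Y) c.toMonoidHom ?_) ?_
    · rintro _ ⟨x, rfl⟩
      exact ⟨e x, (hconj x).symm⟩
    · intro q
      obtain ⟨α, rfl⟩ := QuotientGroup.mk_surjective q
      exact ⟨QuotientGroup.mk (c.symm α), congrArg QuotientGroup.mk (c.apply_symm_apply α)⟩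
  · obtain ⟨s, t, ht, hst⟩ := h.fixed (c.symm α)
    refine ⟨e s, e t, fun h1 => ht (e.map_eq_one_iff.1 h1), ?_⟩
    have h1 : e (c.symm α t) = α (e t) := by simp [hc, MulAut.congr]
    rw [← h1, ← map_inv, ← map_mul, ← map_mul, hst]

section Suzuki

open Cfsg.Agent.Lib.LieTwisted.Suzuki

variable {F : Type u} [Field F] [Fintype F] {m : ℕ}

theorem good_sz (h : IsSzField F m) (hm : 1 ≤ m) : Good (Cfsg.Sz F m) := by
  have hd : ∀ φ : MulAut (Cfsg.Sz F m),
      ∃ s ρ, φ = MulAut.conj s * h.fieldHom hm ρ := by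
    intro φ
    obtain ⟨g, hg⟩ := h.exists_adapted hm φ
    obtain ⟨e, ρ, hd⟩ := hg.decomp h hm
    exact ⟨g⁻¹ * dS h e, ρ, by
      rw [map_mul, mul_assoc, ← hd, ← mul_assoc, ← map_mul, inv_mul_cancel, map_one, one_mul]⟩
  refine good_of_decomp (wS h) (fun h1 => ?_) ?_ fun φ => ?_
  · have h2 := h.wS_smul_none
    rw [h1, one_smul] at h2
    simpa using (opt_injective h2)
  · haveI := Cfsg.Agent.Lib.AutPSL.isCyclic_fieldAuts (F := F)
    refine isCyclic_of_surjective ((QuotientGroup.mk' (Cfsg.Inn (Cfsg.Sz F m))).comp (h.fieldHom hm))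
      fun q => ?_
    obtain ⟨φ, rfl⟩ := QuotientGroup.mk_surjective q
    obtain ⟨s, ρ, rfl⟩ := hd φ
    refine ⟨ρ, ?_⟩
    rw [QuotientGroup.mk_mul, (QuotientGroup.eq_one_iff (N := Cfsg.Inn (Cfsg.Sz F m)) (MulAut.conj s)).2 ⟨s, rfl⟩, one_mul]
    rfl
  · obtain ⟨s, ρ, rfl⟩ := hd φ
    exact ⟨s, _, rfl, h.fieldHom_wS hm ρ⟩

end Suzuki

section Psl

open Cfsg.Agent.Lib.AutPSL Matrix

variable {F : Type u} [Field F] [Fintype F] {n : ℕ}

local notation "PSL" => Matrix.ProjectiveSpecialLinearGroup (Fin 2) F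

theorem good_psl (hF : Fintype.card F = 3 ^ (2 * n + 1)) : Good PSL := by
  classical
  haveI : Fact (Nat.Prime 3) := ⟨Nat.prime_three⟩
  have h8 : Fintype.card F % 4 = 3 := by
    rw [hF, pow_succ, pow_mul, Nat.mul_mod, Nat.pow_mod]; norm_num
  have hodd : Odd (Fintype.card F) := Nat.odd_iff.2 (by omega)
  let R : Subgroup Fˣ := (powMonoidHom 2 : Fˣ →* Fˣ).range
  have hidx : R.index = 2 := by
    rw [IsCyclic.index_powMonoidHom_range, Nat.card_units, Nat.card_eq_fintype_card]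
    obtain ⟨k, hk⟩ := hodd
    rw [hk, Nat.add_sub_cancel]
    exact Nat.gcd_eq_right (dvd_mul_right 2 k)
  have hneg : (-1 : Fˣ) ∉ R := by
    rintro ⟨c, hc⟩
    refine absurd h8 (FiniteField.isSquare_neg_one_iff.1 ⟨(c : F), ?_⟩)
    rw [← sq]
    simpa using (congrArg Units.val hc).symm
  let δ : GL (Fin 2) F := diagFirst (by norm_num) (-1)
  have hδ2 : δ * δ = 1 := by
    show diagFirst _ (-1 : Fˣ) * diagFirst _ (-1) = 1
    rw [← map_mul, neg_mul_neg, one_mul, map_one]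
  let w : Matrix.SpecialLinearGroup (Fin 2) F := ⟨!![0, 1; -1, 0], by simp [Matrix.det_fin_two_of]⟩
  have hw1 : (QuotientGroup.mk w : PSL) ≠ 1 := by
    rw [← QuotientGroup.mk_one, ne_comm, Ne, mk_eq_mk_iff]
    rintro ⟨c, hc⟩
    have := congrFun (congrFun hc 0) 1
    simp [w] at this
  have hwδ : (conjAut δ : MulAut PSL) (QuotientGroup.mk w) = QuotientGroup.mk w := by
    rw [conjAut_mk, eq_comm, mk_eq_mk_iff]
    refine ⟨-1, ?_⟩
    have hinv : δ⁻¹ = δ := inv_eq_of_mul_eq_one_right hδ2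
    rw [coe_conjSL, hinv]
    have hco : (δ : Matrix (Fin 2) (Fin 2) F) = !![-1, 0; 0, 1] := by
      ext i j
      fin_cases i <;> fin_cases j <;> simp [δ, diagFirst, Matrix.diagonal]
    rw [hco]
    ext i j
    fin_cases i <;> fin_cases j <;> simp [w, Matrix.mul_apply, Fin.sum_univ_two]
  have hwσ : ∀ σ : F ≃+* F, (fieldAut σ : MulAut PSL) (QuotientGroup.mk w) = QuotientGroup.mk w := by
    intro σ
    rw [fieldAut_mk]
    refine congrArg _ (Subtype.ext ?_)
    rw [coe_fieldSL]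
    ext i j
    fin_cases i <;> fin_cases j <;> simp [w]
  have hsq : ∀ g : GL (Fin 2) F, GeneralLinearGroup.det g ∈ R →
      ∃ s : PSL, conjAut g = MulAut.conj s := by
    rintro g ⟨c, hc⟩
    obtain ⟨s, hs⟩ := GWConsumers31.conjAut_mem_inn (g := g) (c := c) hc.symm
    exact ⟨s, hs.symm⟩
  have hd : ∀ α : MulAut PSL, ∃ (s : PSL) (ε : Bool) (σ : F ≃+* F),
      α = MulAut.conj s * ((if ε then conjAut δ else 1) * fieldAut σ) := by
    intro α
    obtain ⟨g, σ, γ, hγ, rfl⟩ := exists_decomp (n := 2) le_rfl α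
    obtain rfl : γ = 1 := hγ.resolve_right fun h => absurd h.1 (by norm_num)
    by_cases hg : GeneralLinearGroup.det g ∈ R
    · obtain ⟨s, hs⟩ := hsq g hg
      exact ⟨s, false, σ, by rw [mul_one, hs]; simp⟩
    · obtain ⟨s, hs⟩ := hsq (g * δ) (by
        rw [map_mul, det_diagFirst]
        exact (Subgroup.mul_mem_iff_of_index_two hidx).2 (iff_of_false hg hneg))
      refine ⟨s, true, σ, ?_⟩
      rw [← hs, if_pos rfl, mul_one, ← mul_assoc, ← map_mul, mul_assoc g, hδ2, mul_one]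
  refine good_of_decomp (QuotientGroup.mk w : PSL) hw1 ?_ fun α => ?_
  · obtain ⟨ω, hω⟩ := (isCyclic_fieldAuts (F := F)).exists_generator
    let π := QuotientGroup.mk' (Cfsg.Inn PSL)
    have hxy : Commute (π (conjAut δ)) (π (fieldAut ω)) := by
      rw [← commutatorElement_eq_one_iff_commute, ← map_commutatorElement]
      exact (QuotientGroup.eq_one_iff _).2 (GWConsumers31.commutator_mem_inn hodd _ _)
    have hx2 : π (conjAut δ) ^ 2 = 1 := by rw [sq, ← map_mul, ← map_mul, hδ2, map_one, map_one]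
    have hy : π (fieldAut ω) ^ (2 * n + 1) = 1 := by
      rw [← map_pow, ← map_pow]
      have h1 : ω ^ (2 * n + 1) = 1 := by rw [← card_fieldAuts hF]; exact pow_card_eq_one'
      rw [h1, map_one, map_one]
    let z := π (conjAut δ) * π (fieldAut ω)
    have hzx : π (conjAut δ) ∈ Subgroup.zpowers z := by
      have h1 : z ^ (2 * n + 1) = π (conjAut δ) := by
        rw [hxy.mul_pow, hy, mul_one, pow_succ, pow_mul, hx2, one_pow, one_mul]
      exact h1 ▸ Subgroup.npow_mem_zpowers _ _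
    have hzy : π (fieldAut ω) ∈ Subgroup.zpowers z :=
      (Subgroup.mul_mem_cancel_left _ hzx).1 (Subgroup.mem_zpowers z)
    refine ⟨⟨z, fun q => ?_⟩⟩
    obtain ⟨α, rfl⟩ := QuotientGroup.mk_surjective q
    obtain ⟨s, ε, σ, rfl⟩ := hd α
    obtain ⟨k, rfl⟩ := Subgroup.mem_zpowers_iff.1 (hω σ)
    show π _ ∈ Subgroup.zpowers z
    rw [map_mul, map_mul, show π (MulAut.conj s) = 1 from (QuotientGroup.eq_one_iff _).2 ⟨s, rfl⟩, one_mul,
      map_zpow, map_zpow]
    cases ε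
    · rw [if_neg (by simp), map_one, one_mul]
      exact zpow_mem hzy k
    · rw [if_pos rfl]
      exact mul_mem hzx (zpow_mem hzy k)
  · obtain ⟨s, ε, σ, rfl⟩ := hd α
    refine ⟨s, _, rfl, ?_⟩
    rw [MulAut.mul_apply, hwσ]
    cases ε
    · rfl
    · rw [if_pos rfl]; exact hwδ

end Psl

/-- The groups of Suzuki and `PSL₂(3^(2n+1))`. -/
theorem good_of_isSuzukiOrPSL2 {X : Type u} [Group X] (h : Cfsg.IsSuzukiOrPSL2OddPowerThree X) :
    Good X := by
  rcases h with ⟨F, _, _, m, hm, hF, ⟨e⟩⟩ | ⟨F, _, _, n, hF, ⟨e⟩⟩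
  · exact (good_sz ⟨hF⟩ hm).congr
      ((Cfsg.Agent.Lib.LieTwisted.Suzuki.szEquiv (m := m) ⟨hF⟩ hm).trans e.symm)
  · exact (good_psl hF).congr e.symm

end Cfsg.Agent.Lib.FpfSThreeFree86
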