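import Cfsg.Agent.Lib.FpfSThreeFree86.Lift
import Cfsg.Agent.Lib.FpfSThreeFree86.Models
import Cfsg.Agent.Lib.CompLength.Factors
import Cfsg.Agent.Lib.SThreeFree21.Statement
import Cfsg.Agent.Lib.Transfer.InvolvesS4
import Cfsg.Prelude.Def_OddOrderLocal

/-!
# `S₃`-free groups with fixed-point-free operators having a `π`-nilpotent structure are solvable

Owner: helper86.
-/

set_option autoImplicit false
set_option linter.style.haveILetI false

namespace Cfsg.Agent.Lib.FpfSThreeFree86

open Subgroup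
open Cfsg.Agent.Lib.Transfer.InvolvesS4 (involves_of_injective involves_of_surjective)
open Cfsg.Agent.Lib.CompLength.Factors Cfsg.Agent.Lib.RecogThree.MinNormalFactors

universe u v

section Actions

variable {G : Type u} [Group G] {A : Type v} [Group A] (φ : A →* MulAut G)

/-- The action on an invariant subgroup. -/
def restrictTo (N : Subgroup G) (hN : ∀ a, ∀ x ∈ N, φ a x ∈ N) : A →* MulAut N where
  toFun a :=
    { toFun := fun x => ⟨φ a x, hN a _ x.2⟩
      invFun := fun x => ⟨φ a⁻¹ x, hN a⁻¹ _ x.2⟩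
      left_inv := fun x => Subtype.ext (by
        show φ a⁻¹ (φ a (x : G)) = x
        rw [← MulAut.mul_apply, ← map_mul, inv_mul_cancel, map_one, MulAut.one_apply])
      right_inv := fun x => Subtype.ext (by
        show φ a (φ a⁻¹ (x : G)) = x
        rw [← MulAut.mul_apply, ← map_mul, mul_inv_cancel, map_one, MulAut.one_apply])
      map_mul' := fun x y => Subtype.ext (map_mul (φ a) (x : G) y) }
  map_one' := MulEquiv.ext fun x => Subtype.ext (by
    show φ 1 (x : G) = x
    rw [map_one, MulAut.one_apply])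
  map_mul' a b := MulEquiv.ext fun x => Subtype.ext (by
    show φ (a * b) (x : G) = φ a (φ b (x : G))
    rw [map_mul, MulAut.mul_apply])

theorem coe_restrictTo (N : Subgroup G) (hN : ∀ a, ∀ x ∈ N, φ a x ∈ N) (a : A) (x : N) :
    ((restrictTo φ N hN a x : N) : G) = φ a x := rfl

theorem map_eq_of_inv (N : Subgroup G) (hN : ∀ a, ∀ x ∈ N, φ a x ∈ N) (a : A) :
    N.map (φ a).toMonoidHom = N := by
  refine le_antisymm ?_ fun x hx => ⟨φ a⁻¹ x, hN _ _ hx, ?_⟩
  · rintro _ ⟨x, hx, rfl⟩
    exact hN a x hx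
  · show φ a (φ a⁻¹ x) = x
    rw [← MulAut.mul_apply, ← map_mul, mul_inv_cancel, map_one, MulAut.one_apply]

/-- The action on the quotient by an invariant normal subgroup. -/
def quotientAct (N : Subgroup G) [N.Normal] (hN : ∀ a, ∀ x ∈ N, φ a x ∈ N) :
    A →* MulAut (G ⧸ N) where
  toFun a := QuotientGroup.congr N N (φ a) (map_eq_of_inv φ N hN a)
  map_one' := MulEquiv.ext fun q => by
    obtain ⟨g, rfl⟩ := QuotientGroup.mk_surjective q
    show (QuotientGroup.mk (φ 1 g) : G ⧸ N) = QuotientGroup.mk g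
    rw [map_one, MulAut.one_apply]
  map_mul' a b := MulEquiv.ext fun q => by
    obtain ⟨g, rfl⟩ := QuotientGroup.mk_surjective q
    show (QuotientGroup.mk (φ (a * b) g) : G ⧸ N) = QuotientGroup.mk (φ a (φ b g))
    rw [map_mul, MulAut.mul_apply]

theorem quotientAct_mk (N : Subgroup G) [N.Normal] (hN : ∀ a, ∀ x ∈ N, φ a x ∈ N) (a : A) (g : G) :
    quotientAct φ N hN a (QuotientGroup.mk g) = QuotientGroup.mk (φ a g) := rfl

end Actions

/-- The case without a proper invariant normal subgroup. -/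
theorem false_of_simple {G : Type u} [Group G] [Finite G] {A : Type v} [Group A] [Finite A]
    (hS : SThreeFree21.SThreeFreeSimple.{max u v}) (φ : A →* MulAut G) (K : Subgroup A) [K.Normal]
    [Group.IsNilpotent (A ⧸ K)] (hco : (Nat.card K).Coprime (Nat.card G))
    (hfpf : ∀ g : G, (∀ a : A, φ a g = g) → g = 1)
    (hS3 : ¬ Cfsg.Involves (Equiv.Perm (Fin 3)) G) (hnt : Nontrivial G)
    (hZ : Subgroup.center G = ⊥)
    (hmin : ∀ X : Subgroup G, X.Normal → (∀ a, ∀ x ∈ X, φ a x ∈ X) → X = ⊥ ∨ X = ⊤) : False := by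
  classical
  haveI : Finite (G ⋊[φ] A) := Finite.of_equiv _ SemidirectProduct.equivProd.symm
  let inl : G →* (G ⋊[φ] A) := SemidirectProduct.inl
  let inr : A →* (G ⋊[φ] A) := SemidirectProduct.inr
  have hinl : Function.Injective inl := SemidirectProduct.inl_injective
  have haut : ∀ a g, inl (φ a g) = inr a * inl g * (inr a)⁻¹ := fun a g => by
    rw [← map_inv]; exact SemidirectProduct.inl_aut a g
  let N : Subgroup (G ⋊[φ] A) := inl.range
  have hN : N.Normal := by
    show (SemidirectProduct.inl : G →* (G ⋊[φ] A)).range.Normal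
    rw [SemidirectProduct.range_inl_eq_ker_rightHom]
    infer_instance
  have hN1 : N ≠ ⊥ := by
    intro h
    obtain ⟨g, hg⟩ := exists_ne (1 : G)
    exact hg (hinl ((Subgroup.mem_bot.1 (h ▸ ⟨g, rfl⟩ : inl g ∈ (⊥ : Subgroup (G ⋊[φ] A)))).trans (map_one inl).symm))
  have hcent : N ⊓ Subgroup.centralizer (N : Set (G ⋊[φ] A)) = ⊥ := by
    rw [Subgroup.eq_bot_iff_forall]
    rintro _ ⟨⟨g, rfl⟩, hc⟩
    have h : g ∈ Subgroup.center G := Subgroup.mem_center_iff.2 fun y => hinl (by
      rw [map_mul, map_mul]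
      exact Subgroup.mem_centralizer_iff.1 hc (inl y) ⟨y, rfl⟩)
    rw [hZ, Subgroup.mem_bot] at h
    rw [h, map_one]
  have hminN : ∀ X : Subgroup (G ⋊[φ] A), X.Normal → X ≤ N → X = ⊥ ∨ X = N := by
    intro X hX hXN
    rcases hmin (X.comap inl) (hX.comap inl) (fun a x hx => by
      rw [Subgroup.mem_comap, haut]
      exact hX.conj_mem _ hx _) with h | h
    · left
      rw [← Subgroup.map_comap_eq_self hXN, h, Subgroup.map_bot]
    · right
      rw [← Subgroup.map_comap_eq_self hXN, h, ← MonoidHom.range_eq_map]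
  obtain ⟨M, hM⟩ := exists_factor hN hN1 hminN hcent
  have S : Setting N M := ⟨hN, hcent, hM⟩
  -- the factor
  haveI : Nontrivial M := (Subgroup.nontrivial_iff_ne_bot M).2 hM.ne_bot
  haveI hsimple : IsSimpleGroup M := ⟨fun Y hY => by
    rcases hM.minimal (Y.map M.subtype) (Subgroup.map_subtype_le _) (by
      rintro m hm _ ⟨y, hy, rfl⟩
      exact ⟨⟨m, hm⟩ * y * ⟨m, hm⟩⁻¹, hY.conj_mem y hy _, by simp⟩) with h | h
    · exact Or.inl ((Subgroup.map_eq_bot_iff_of_injective _ M.subtype_injective).1 h)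
    · refine Or.inr (Subgroup.map_injective M.subtype_injective ?_)
      rw [h, ← MonoidHom.range_eq_map, Subgroup.range_subtype]⟩
  have hZM : Subgroup.center M = ⊥ := by
    rw [Subgroup.eq_bot_iff_forall]
    intro x hx
    exact Subtype.ext (hM.centreless _ x.2 fun y hy =>
      (congrArg Subtype.val (Subgroup.mem_center_iff.1 hx ⟨y, hy⟩)).symm)
  have hnab : ∃ a b : M, a * b ≠ b * a := by
    by_contra hcon
    push Not at hcon
    obtain ⟨x, hx⟩ := exists_ne (1 : M)
    exact hx (Subgroup.mem_bot.1 (hZM ▸ Subgroup.mem_center_iff.2 fun y => hcon y x))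
  have hr : ∀ x : M, (x : (G ⋊[φ] A)).right = 1 := fun x => by
    obtain ⟨g, hg⟩ := hM.le x.2
    rw [← hg]
    rfl
  have hMS3 : ¬ Cfsg.Involves (Equiv.Perm (Fin 3)) M := fun h => hS3 <| by
    refine involves_of_injective (MonoidHom.mk' (fun x : M => (x : (G ⋊[φ] A)).left) fun x y => ?_) ?_ h
    · rw [Subgroup.coe_mul, SemidirectProduct.mul_left, hr x, map_one, MulAut.one_apply]
    · intro x y hxy
      exact Subtype.ext (SemidirectProduct.ext hxy ((hr x).trans (hr y).symm))
  have hgood : Good M := good_of_isSuzukiOrPSL2 (hS M hsimple hnab hMS3)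
  -- the stabiliser of the factor
  let AM : Subgroup A := (Subgroup.normalizer (M : Set (G ⋊[φ] A))).comap inr
  let θ : AM →* MulAut (G ⋊[φ] A) := (MulAut.conj.comp inr).comp AM.subtype
  have hθ : ∀ a : AM, ∀ x ∈ M, θ a x ∈ M := fun a x hx =>
    (Subgroup.mem_normalizer_iff.1 a.2 x).1 hx
  haveI : Group.IsNilpotent (AM ⧸ K.subgroupOf AM) := by
    refine Subgroup.isNilpotent_of_ker_le_center
      (QuotientGroup.map (K.subgroupOf AM) K AM.subtype le_rfl) ?_
    intro q hq
    obtain ⟨a, rfl⟩ := QuotientGroup.mk_surjective q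
    replace hq : (a : A) ∈ K := (QuotientGroup.eq_one_iff _).1 hq
    rw [(QuotientGroup.eq_one_iff a).2 (Subgroup.mem_subgroupOf.2 hq)]
    exact Subgroup.one_mem _
  have hco' : (Nat.card (K.subgroupOf AM)).Coprime (Nat.card M) := by
    refine Nat.Coprime.coprime_dvd_left ?_ (Nat.Coprime.coprime_dvd_right ?_ hco)
    · exact Subgroup.card_dvd_of_injective
        ((AM.subtype.comp (K.subgroupOf AM).subtype).codRestrict K fun a => a.2)
        fun a b hab => Subtype.ext (Subtype.ext (congrArg Subtype.val hab :))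
    · have h1 : Nat.card M ∣ Nat.card N := Subgroup.card_dvd_of_le hM.le
      have h2 : Nat.card G = Nat.card N := Nat.card_congr (MonoidHom.ofInjective hinl).toEquiv
      rwa [h2]
  obtain ⟨x, hx1, hx⟩ := hgood.exists_fixed hZM (restrictTo θ M hθ) (K.subgroupOf AM) hco'
  have hxfix : ∀ a ∈ AM, inr a * (x : (G ⋊[φ] A)) * (inr a)⁻¹ = x := fun a ha =>
    congrArg Subtype.val (hx ⟨a, ha⟩)
  -- transitivity of `A` on the factors
  have hnorm : ∀ (F : Fac M) (g : G), cj F.1 (inl g) = F.1 := by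
    intro F g
    ext z
    rw [mem_cj]
    constructor
    · intro hz
      have := S.normalized F (n := inl g) ⟨g, rfl⟩ hz
      simpa [mul_assoc] using this
    · intro hz
      have := S.normalized F (n := (inl g)⁻¹) (N.inv_mem ⟨g, rfl⟩) hz
      simpa [mul_assoc] using this
  have htrans : ∀ F : Fac M, ∃ a : A, cj M (inr a) = F.1 := by
    intro F
    obtain ⟨g, hg⟩ := F.2
    refine ⟨g.right, ?_⟩
    have h := hnorm ⟨cj M (inr g.right), _, rfl⟩ g.left
    rw [cj_cj] at h
    rw [← hg]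
    exact h.symm.trans (congrArg (cj M) (SemidirectProduct.inl_left_mul_inr_right g))
  choose α hα using htrans
  have hindep : ∀ a b : A, cj M (inr a) = cj M (inr b) →
      inr a * (x : (G ⋊[φ] A)) * (inr a)⁻¹ = inr b * x * (inr b)⁻¹ := by
    intro a b hab
    have hm : b⁻¹ * a ∈ AM := by
      show inr (b⁻¹ * a) ∈ Subgroup.normalizer (M : Set (G ⋊[φ] A))
      have h1 : cj M (inr (b⁻¹ * a)) = M := by
        rw [map_mul, ← cj_cj, hab, cj_cj, map_inv, inv_mul_cancel, cj_one]
      refine Subgroup.mem_normalizer_iff.2 fun z => ?_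
      conv_rhs => rw [show M = cj M (inr (b⁻¹ * a)) from h1.symm]
      rw [mem_cj]
      simp [mul_assoc]
    have := congrArg (fun z => inr b * z * (inr b)⁻¹) (hxfix _ hm)
    simpa [mul_assoc] using this
  let f : ∀ F : Fac M, F.1 := fun F => ⟨inr (α F) * x * (inr (α F))⁻¹, by
    rw [← hα F, mem_cj]
    simp [mul_assoc]⟩
  obtain ⟨n, hn⟩ := S.exists_of_components f
  obtain ⟨g, hg⟩ := n.2
  have hfix : ∀ a : A, φ a g = g := by
    intro a
    apply hinl
    let n' : N := ⟨inr a * n * (inr a)⁻¹, hN.conj_mem _ n.2 _⟩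
    have key : n' = n := S.ext fun F => by
      obtain ⟨F₀, rfl⟩ : ∃ F₀, mapFac (inr a) F₀ = F := ⟨mapFac (inr a)⁻¹ F, Subtype.ext (by
        show cj (cj F.1 (inr a)⁻¹) (inr a) = F.1
        rw [cj_cj, mul_inv_cancel, cj_one])⟩
      refine Subtype.ext ?_
      rw [S.proj_conj F₀ (inr a) n n' rfl, hn, hn]
      show inr a * (inr (α F₀) * (x : (G ⋊[φ] A)) * (inr (α F₀))⁻¹) * (inr a)⁻¹ = _
      have h1 := hindep (a * α F₀) (α (mapFac (inr a) F₀)) (by
        rw [hα, map_mul, ← cj_cj, hα F₀]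
        rfl)
      refine Eq.trans ?_ h1
      simp [mul_assoc]
    rw [haut, hg]
    exact congrArg Subtype.val key
  have hn1 : n = 1 := Subtype.ext (by rw [← hg, hfpf g hfix, map_one]; rfl)
  have h := hn (base M)
  rw [hn1, map_one] at h
  refine hx1 (Subtype.ext ?_)
  have h' : inr (α (base M)) * (x : (G ⋊[φ] A)) * (inr (α (base M)))⁻¹ = 1 := (congrArg Subtype.val h).symm
  rw [conj_eq_one_iff] at h'
  exact h'

/-- Operators with a normal subgroup of coprime order and nilpotent quotient. -/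
theorem isSolvable_of_fpf {A : Type v} [Group A] [Finite A]
    (hS : SThreeFree21.SThreeFreeSimple.{max u v}) (K : Subgroup A) [K.Normal]
    [Group.IsNilpotent (A ⧸ K)] :
    ∀ (G : Type u) [Group G] [Finite G] (φ : A →* MulAut G),
      (Nat.card K).Coprime (Nat.card G) → (∀ g : G, (∀ a : A, φ a g = g) → g = 1) →
      ¬ Cfsg.Involves (Equiv.Perm (Fin 3)) G → Group.IsSolvable G := by
  classical
  suffices H : ∀ (n : ℕ) (G : Type u) [Group G] [Finite G], Nat.card G = n → ∀ (φ : A →* MulAut G),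
      (Nat.card K).Coprime (Nat.card G) → (∀ g : G, (∀ a : A, φ a g = g) → g = 1) →
      ¬ Cfsg.Involves (Equiv.Perm (Fin 3)) G → Group.IsSolvable G from
    fun G _ _ => H (Nat.card G) G rfl
  intro n
  induction n using Nat.strong_induction_on with
  | _ n ih =>
  intro G _ _ hn φ hco hfpf hS3
  by_cases hex : ∃ N : Subgroup G, N.Normal ∧ (∀ a, ∀ x ∈ N, φ a x ∈ N) ∧ N ≠ ⊥ ∧ N ≠ ⊤
  · obtain ⟨N, hNn, hNi, hN1, hN2⟩ := hex
    have hlt : Nat.card N < n := hn ▸ (lt_of_le_of_ne (Subgroup.card_le_card_group N)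
      fun h => hN2 ((Subgroup.card_eq_iff_eq_top N).1 h))
    haveI hNs : Group.IsSolvable N := by
      refine ih _ hlt N rfl (restrictTo φ N hNi)
        (hco.coprime_dvd_right (Subgroup.card_subgroup_dvd_card N))
        (fun g hg => Subtype.ext (hfpf g fun a => congrArg Subtype.val (hg a)))
        (fun h => hS3 (involves_of_injective N.subtype N.subtype_injective h))
    obtain ⟨M, hMS, hMmin⟩ := (Set.toFinite {X : Subgroup G | X ≤ N ∧ X ≠ ⊥ ∧ X.Normal ∧
      ∀ a, ∀ x ∈ X, φ a x ∈ X}).exists_minimal ⟨N, le_rfl, hN1, hNn, hNi⟩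
    obtain ⟨hMN, hM1, hMn, hMi⟩ := hMS
    haveI := hMn
    haveI : Group.IsSolvable M := Group.isSolvable_of_isSolvable_injective (Subgroup.inclusion_injective hMN)
    haveI : Nontrivial M := (Subgroup.nontrivial_iff_ne_bot M).2 hM1
    have hMab : ⁅M, M⁆ = ⊥ := by
      by_contra hC
      have hle : ⁅M, M⁆ ≤ M := Subgroup.commutator_le_self M
      have hge := hMmin ⟨hle.trans hMN, hC, inferInstance, fun a x hx => by
        have h := Subgroup.mem_map_of_mem (φ a).toMonoidHom hx
        rwa [Subgroup.map_commutator, map_eq_of_inv φ M hMi a] at h⟩ hle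
      have hlt := Group.IsSolvable.commutator_lt_top_of_nontrivial M
      refine hlt.ne (Subgroup.map_injective M.subtype_injective ?_)
      rw [Subgroup.map_subtype_commutator, ← MonoidHom.range_eq_map, Subgroup.range_subtype]
      exact le_antisymm hle hge
    have hcomm : ∀ x ∈ M, ∀ y ∈ M, x * y = y * x := fun x hx y hy =>
      (Subgroup.commutator_eq_bot_iff_le_centralizer.1 hMab hy x hx)
    obtain ⟨p, hp, hpM⟩ := Nat.exists_prime_and_dvd (n := Nat.card M)
      (fun h => hM1 (Subgroup.card_eq_one.1 h))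
    haveI : Fact p.Prime := ⟨hp⟩
    obtain ⟨e, he⟩ := exists_prime_orderOf_dvd_card' (G := M) p hpM
    let P : Subgroup G :=
      { carrier := {x | x ∈ M ∧ x ^ p = 1}
        one_mem' := ⟨M.one_mem, one_pow _⟩
        mul_mem' := fun {x y} hx hy => ⟨M.mul_mem hx.1 hy.1, by
          rw [Commute.mul_pow (hcomm x hx.1 y hy.1), hx.2, hy.2, one_mul]⟩
        inv_mem' := fun {x} hx => ⟨M.inv_mem hx.1, by rw [inv_pow, hx.2, inv_one]⟩ }
    have hPi : ∀ a, ∀ x ∈ P, φ a x ∈ P := fun a x hx =>
      ⟨hMi a x hx.1, by rw [← map_pow, hx.2, map_one]⟩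
    haveI hPn : P.Normal := ⟨fun x hx g => ⟨hMn.conj_mem x hx.1 g, by rw [conj_pow, hx.2]; group⟩⟩
    have hPab : IsMulCommutative P := ⟨⟨fun x y => Subtype.ext (hcomm _ x.2.1 _ y.2.1)⟩⟩
    have hPp : IsPGroup p P := fun x => ⟨1, Subtype.ext (by rw [pow_one]; exact x.2.2)⟩
    have hP1 : P ≠ ⊥ := fun h => by
      have hm : (e : G) ∈ P := ⟨e.2, by
        rw [← Subgroup.coe_pow, ← he, pow_orderOf_eq_one, Subgroup.coe_one]⟩
      rw [h, Subgroup.mem_bot] at hm
      rw [show e = 1 from Subtype.ext hm, orderOf_one] at he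
      exact hp.one_lt.ne he
    have hlt' : Nat.card (G ⧸ P) < n := by
      rw [← hn, Subgroup.card_eq_card_quotient_mul_card_subgroup P]
      exact lt_mul_of_one_lt_right Nat.card_pos ((Subgroup.one_lt_card_iff_ne_bot P).2 hP1)
    haveI : Group.IsSolvable (G ⧸ P) := by
      refine ih _ hlt' (G ⧸ P) rfl (quotientAct φ P hPi)
        (hco.coprime_dvd_right (Subgroup.card_quotient_dvd_card P)) ?_
        (fun h => hS3 (involves_of_surjective (QuotientGroup.mk' P) (QuotientGroup.mk'_surjective P) h))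
      intro q hq
      obtain ⟨g, rfl⟩ := QuotientGroup.mk_surjective q
      refine (QuotientGroup.eq_one_iff g).2 (mem_of_fixed_mod φ K hco hfpf P hPab hPp hPi fun a => ?_)
      have := hq a
      rw [quotientAct_mk] at this
      exact QuotientGroup.eq.1 this.symm
    haveI : Group.IsSolvable P :=
      Group.isSolvable_of_isSolvable_injective (Subgroup.inclusion_injective (fun _ hx => hx.1 : P ≤ M))
    exact Group.isSolvable_of_ker_le_range P.subtype (QuotientGroup.mk' P) (by simp)
  · push Not at hex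
    have hmin : ∀ X : Subgroup G, X.Normal → (∀ a, ∀ x ∈ X, φ a x ∈ X) → X = ⊥ ∨ X = ⊤ :=
      fun X hX hXi => or_iff_not_imp_left.2 fun h => hex X hX hXi h
    by_contra hns
    have hnt : Nontrivial G := by
      by_contra h
      rw [not_nontrivial_iff_subsingleton] at h
      exact hns inferInstance
    refine false_of_simple hS φ K hco hfpf hS3 hnt ((hmin _ inferInstance fun a x hx =>
      Subgroup.mem_center_iff.2 fun y => ?_).resolve_right fun h => hns ?_) hmin
    · obtain ⟨z, rfl⟩ := (φ a).surjective y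
      rw [← map_mul, ← map_mul, Subgroup.mem_center_iff.1 hx z]
    · exact Group.isSolvable_of_comm fun x y =>
        (Subgroup.mem_center_iff.1 (h ▸ Subgroup.mem_top x : x ∈ Subgroup.center G) y).symm

/-- The quotient of the operators by the complement of a nilpotent Hall subgroup is nilpotent. -/
theorem isNilpotent_quotient {A : Type v} [Group A] [Finite A] {π : Set ℕ} {H K : Subgroup A} [K.Normal]
    (hH : Cfsg.IsPiHall π H) (hHn : Group.IsNilpotent H)
    (hK : ∀ r : ℕ, r.Prime → r ∣ K.index → r ∈ π) : Group.IsNilpotent (A ⧸ K) := by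
  haveI := hHn
  refine Group.nilpotent_of_surjective ((QuotientGroup.mk' K).comp H.subtype) (MonoidHom.range_eq_top.1 ?_)
  rw [MonoidHom.range_comp, Subgroup.range_subtype, ← Subgroup.index_eq_one]
  by_contra h
  obtain ⟨r, hr, hrd⟩ := Nat.exists_prime_and_dvd h
  exact hH.2 r hr (hK r hr (hrd.trans (Subgroup.index_dvd_card _)))
    (hrd.trans (Subgroup.index_map_dvd _ (QuotientGroup.mk'_surjective K)))

end Cfsg.Agent.Lib.FpfSThreeFree86
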