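import Cfsg.Agent.Lib.FpfSThreeFree86.Main

/-!
# The statement of S4041 modulo the simple groups without a section `Sym(3)`

Owner: helper86.
-/

set_option autoImplicit false

namespace Cfsg.Agent.Lib.FpfSThreeFree86

universe u v

theorem row4041 (hS : SThreeFree21.SThreeFreeSimple.{max u v}) {G : Type u} {A : Type v} [Group G] [Finite G]
    [Group A] [Finite A] (φ : A →* MulAut G) (hfpf : ∀ g : G, (∀ a : A, φ a g = g) → g = 1)
    (hS3 : ¬ Cfsg.Involves (Equiv.Perm (Fin 3)) G)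
    (hHall : ∃ H : Subgroup A, Cfsg.IsPiHall {r : ℕ | r.Prime ∧ r ∣ Nat.card G} H ∧ Group.IsNilpotent H)
    (hcomp : ∃ K : Subgroup A, K.Normal ∧ (∀ r : ℕ, r.Prime → r ∣ Nat.card K → ¬ r ∣ Nat.card G) ∧
      ∀ r : ℕ, r.Prime → r ∣ K.index → r ∣ Nat.card G) :
    Group.IsSolvable G := by
  obtain ⟨H, hH, hHn⟩ := hHall
  obtain ⟨K, hK, hK1, hK2⟩ := hcomp
  haveI := hK
  haveI := isNilpotent_quotient hH hHn fun r hr hrd => ⟨hr, hK2 r hr hrd⟩
  exact isSolvable_of_fpf hS K G φ (Nat.coprime_of_dvd fun r hr h1 h2 => hK1 r hr h1 h2) hfpf hS3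

end Cfsg.Agent.Lib.FpfSThreeFree86
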